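import Cfsg.Agent.H360.ON.Count

/-!
# O'Nan's theorem with the characteristic (helper361)

`nsr` : an abelian normal subgroup of the point stabilizer of a 2-transitive group, not semiregular on the other
points, is an `r`-group, and the group has a minimum normal subgroup `PSL_n(r^f)`, `n ≥ 3`, the number of points is
`(q^n - 1)/(q - 1)`, `q = r^f`.
-/

set_option autoImplicit false

namespace Cfsg.Agent.H361.Tits

open Subgroup MulAction Cfsg.Agent.H360.ON
open Cfsg.Agent.AGraded Cfsg.Agent.TitsThree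

variable {G X : Type*} [Group G] [MulAction G X] {N : X → Subgroup G}

section frame

variable {ι : Type*} {p : ι → X}

/-- the exponent of `N (p i)` -/
theorem pow_eq_one [Finite G] [Finite X] [FaithfulSMul G X] [Finite ι] (S : Ab N) (P : Frame N p)
    (h3 : ∀ i j : ι, ∃ k, i ≠ k ∧ j ≠ k) {q : ℕ}
    (hq : ∀ i j, i ≠ j → Nat.card (Xr N p i j) = q) {i : ι} {w : G} (hw : w ∈ N (p i)) : w ^ q = 1 := by
  apply S.eq_one_of_fix P (pow_mem hw q)
  intro j
  by_cases hij : i = j
  · rw [← hij]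
    exact S.fix _ _ (pow_mem hw q)
  obtain ⟨k, hik, hjk⟩ := h3 i j
  obtain ⟨y, hy, hyj⟩ := S.root_trans P hij hik hjk hw
  have key : ∀ m : ℕ, w ^ m • p j = y ^ m • p j := by
    intro m
    induction m with
    | zero => rw [pow_zero, pow_zero]
    | succ m ih =>
      have h1 : w ^ m * y = y * w ^ m := S.comm _ _ (pow_mem hw m) _ hy.1
      rw [pow_succ, mul_smul, ← hyj, ← mul_smul, h1, mul_smul, ih, ← mul_smul, ← pow_succ']
  rw [key]
  have h1 : y ^ q = 1 := by
    have h2 := pow_card_eq_one' (x := (⟨y, hy⟩ : Xr N p i j))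
    rw [hq i j hij] at h2
    exact congrArg Subtype.val h2
  rw [h1, one_smul]

end frame

/-- recognition with the number of points and the exponent -/
theorem psl_exp [Finite G] [Finite X] [FaithfulSMul G X] (S : Ab N) (hgen : (⨆ a, N a) = ⊤) :
    ∃ (F : Type) (_ : Field F) (_ : Fintype F) (n : ℕ), 3 ≤ n ∧
      Nonempty (G ≃* Matrix.ProjectiveSpecialLinearGroup (Fin n) F) ∧
      Nat.card X * (Fintype.card F - 1) = Fintype.card F ^ n - 1 ∧
      ∃ a, ∀ x ∈ N a, x ^ Fintype.card F = 1 := by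
  classical
  have hsimple := S.simple hgen
  obtain ⟨n, p, hn, P⟩ := S.exists_frame
  obtain ⟨q, hq2, hq⟩ := S.exists_q
  have h3 : ∀ i j : Fin n, ∃ k, i ≠ k ∧ j ≠ k := by
    intro i j
    have h4 : (({i, j} : Finset (Fin n))ᶜ).Nonempty := by
      rw [← Finset.card_pos, Finset.card_compl, Fintype.card_fin]
      have := Finset.card_le_two (a := i) (b := j)
      omega
    obtain ⟨k, hk⟩ := h4
    simp only [Finset.mem_compl, Finset.mem_insert, Finset.mem_singleton, not_or] at hk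
    exact ⟨k, fun h => hk.1 h.symm, fun h => hk.2 h.symm⟩
  have hcX := S.card_X hq2 hq (by omega) P
  have hfin : Nat.card X * (q - 1) = q ^ n - 1 := by omega
  have hexp : ∃ a, ∀ x ∈ N a, x ^ q = 1 :=
    ⟨p ⟨0, by omega⟩, fun x hx => pow_eq_one S P h3 (fun i j hij => S.card_root P h3 hq hij) hx⟩
  have hg := S.graded P
  have hgK : ∀ K : Subgroup G, (∀ i j, i ≠ j → Xr N p i j ≤ K) → K = ⊤ := by
    intro K hK
    rw [eq_top_iff, ← hgen]
    exact iSup_le (S.gen P h3 hK)
  rcases Nat.lt_or_ge n 4 with h4 | h4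
  · have hn3 : n = 3 := by omega
    subst hn3
    obtain ⟨F, i1, i2, x, hx, hX⟩ := A2Field.exists_field hg (S.rgd P h3)
    have hF : Fintype.card F = q := by
      rw [← S.card_root P h3 hq (show (0 : Fin 3) ≠ 1 by decide), ← Nat.card_eq_fintype_card]
      refine Nat.card_congr (Equiv.ofBijective (fun a => ⟨x 0 1 a, (hX 0 1 (by decide)).1 a⟩) ⟨?_, ?_⟩)
      · intro a b hab
        have h5 : x 0 1 a = x 0 1 b := congrArg Subtype.val hab
        obtain ⟨c, -, hc⟩ := (hX 0 1 (by decide)).2 (x 0 1 a) ((hX 0 1 (by decide)).1 a)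
        rw [hc a rfl, hc b h5.symm]
      · rintro ⟨y, hy⟩
        obtain ⟨a, ha, -⟩ := (hX 0 1 (by decide)).2 y hy
        exact ⟨a, Subtype.ext ha⟩
    refine ⟨F, i1, i2, 3, le_rfl, nonempty_psl hx (by simp) ?_, by rw [hF]; exact hfin, by rw [hF]; exact hexp⟩
    apply hgK
    intro i j hij y hy
    obtain ⟨a, ha, -⟩ := (hX i j hij).2 y hy
    exact subset_closure ⟨i, j, hij, a, ha.symm⟩
  · obtain ⟨F, i1, i2, hF, -, h⟩ := hg.exists_psl (by simpa using h4) hgK
    have hF' : Fintype.card F = q := by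
      have h01 : (⟨0, by omega⟩ : Fin n) ≠ ⟨1, by omega⟩ := by simp [Fin.ext_iff]
      rw [hF _ _ h01, S.card_root P h3 hq h01]
    exact ⟨F, i1, i2, n, hn, h, by rw [hF']; exact hfin, by rw [hF']; exact hexp⟩

/-- **O'Nan's theorem** with the number of points and the characteristic. -/
theorem nsr [Finite G] [Finite X] [FaithfulSMul G X] (S : Ab N) :
    ∃ r f n : ℕ, r.Prime ∧ 1 ≤ f ∧ 3 ≤ n ∧ (∀ a, IsPGroup r ↥(N a)) ∧
      Nat.card X * (r ^ f - 1) = (r ^ f) ^ n - 1 ∧
      ∃ W : Subgroup G, W.Normal ∧ (∀ M : Subgroup G, M.Normal → M ≠ ⊥ → W ≤ M) ∧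
        ∃ (F : Type) (_ : Field F) (_ : Fintype F), Fintype.card F = r ^ f ∧
          Nonempty (W ≃* Matrix.ProjectiveSpecialLinearGroup (Fin n) F) := by
  obtain ⟨h1, h2, h3, h4, -⟩ := onan S
  obtain ⟨F, i1, i2, n, hn, he, hc, b, hb⟩ := psl_exp S.restrict S.restrict_gen
  obtain ⟨r, hchar⟩ := CharP.exists F
  obtain ⟨⟨f, hf0⟩, hr, hF⟩ := FiniteField.card F r
  simp only [PNat.mk_coe] at hF
  rw [hF] at hc hb
  refine ⟨r, f, n, hr, hf0, hn, ?_, hc, (⨆ a, N a : Subgroup G), h1, ?_, F, i1, i2, hF, he⟩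
  · -- all the groups `N a` are conjugate
    intro a
    have hNb : ∀ x ∈ N b, x ^ r ^ f = 1 := by
      intro x hx
      have h5 := hb ⟨x, le_iSup N b hx⟩ hx
      exact congrArg Subtype.val h5
    have htr : ∃ g : G, g • a = b := by
      by_cases hab : a = b
      · exact ⟨1, by rw [one_smul, hab]⟩
      · obtain ⟨g, hg, -⟩ := S.two a b b a hab (Ne.symm hab)
        exact ⟨g, hg⟩
    obtain ⟨g, hg⟩ := htr
    rintro ⟨x, hx⟩
    refine ⟨f, Subtype.ext ?_⟩
    have h5 := S.conj g a x hx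
    rw [hg] at h5
    have h6 := hNb _ h5
    rw [conj_pow] at h6
    change x ^ r ^ f = 1
    exact conj_eq_one_iff.1 h6
  · intro M hM hM1
    -- `M` meets `W` nontrivially
    have hinf : M ⊓ (⨆ a, N a) ≠ ⊥ := by
      intro h5
      apply hM1
      rw [eq_bot_iff, ← h2]
      intro m hm
      rw [mem_centralizer_iff]
      intro w hw
      have h6 : w * m * w⁻¹ * m⁻¹ ∈ M ⊓ (⨆ a, N a : Subgroup G) := by
        refine ⟨M.mul_mem (hM.conj_mem m hm w) (M.inv_mem hm), ?_⟩
        have h7 : w * m * w⁻¹ * m⁻¹ = w * (m * w⁻¹ * m⁻¹) := by group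
        rw [h7]
        exact mul_mem hw (h1.conj_mem _ (inv_mem hw) m)
      rw [h5, mem_bot] at h6
      have h7 := mul_inv_eq_one.1 h6
      exact mul_inv_eq_iff_eq_mul.1 h7
    have hn' : (M.subgroupOf (⨆ a, N a)).Normal := inferInstance
    rcases h3.eq_bot_or_eq_top_of_normal _ hn' with h5 | h5
    · exfalso
      apply hinf
      rw [subgroupOf_eq_bot] at h5
      exact h5.eq_bot
    · exact subgroupOf_eq_top.1 h5

end Cfsg.Agent.H361.Tits
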