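import Cfsg.Agent.H361.Tits.SemiReg
import Cfsg.Agent.H499.TTNormPsl
import Cfsg.Agent.H347.Aff.Asm

/-!
# `PSL_d(q)`, `d ≥ 3`: a nontrivial subgroup of the socle, normal in the point stabilizer, is not semiregular on
the other points (helper361)
-/

set_option autoImplicit false

namespace Cfsg.Agent.H361.Tits

open Subgroup MulAction Cfsg.Agent.H384.TwoTrans Cfsg.Agent.H384 Cfsg.Agent.H499.TT
open scoped LinearAlgebra.Projectivization

universe u v

section Lin

variable {ι F : Type*} [Field F] [DecidableEq ι] [Fintype ι]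

theorem smul_mk (s : Matrix.SpecialLinearGroup ι F) {w : ι → F} (hw : w ≠ 0) :
    s • Projectivization.mk F w hw = Projectivization.mk F (s.1.mulVec w) ((smul_ne_zero_iff_ne s).mpr hw) := rfl

theorem smul_mk_eq {s : Matrix.SpecialLinearGroup ι F} {w : ι → F} (hw : w ≠ 0) {k : F}
    (hs : s.1.mulVec w = k • w) : s • Projectivization.mk F w hw = Projectivization.mk F w hw := by
  rw [smul_mk, Projectivization.mk_eq_mk_iff']
  exact ⟨k, hs.symm⟩

omit [DecidableEq ι] in
/-- a linear map of rank at most one vanishes at a vector outside a given line -/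
theorem exists_ker (h3 : 3 ≤ Fintype.card ι) {W : Type*} [AddCommGroup W] [Module F W] (D : (ι → F) →ₗ[F] W)
    (hD : Module.finrank F (LinearMap.range D) ≤ 1) (v : ι → F) : ∃ w, D w = 0 ∧ w ∉ Submodule.span F {v} := by
  by_contra hcon
  push Not at hcon
  have h1 : LinearMap.ker D ≤ Submodule.span F {v} := fun w hw => hcon w hw
  have h2 := Submodule.finrank_mono h1
  have h4 := finrank_span_le_card (R := F) ({v} : Set (ι → F))
  have h5 := LinearMap.finrank_range_add_finrank_ker D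
  rw [Module.finrank_fintype_fun_eq_card] at h5
  simp at h4
  omega

omit [DecidableEq ι] [Fintype ι] in
theorem eq_zero_of_dual {v x : ι → F} (h : ∀ f : Module.Dual F (ι → F), f v = 0 → f x = 0) :
    x ∈ Submodule.span F {v} := by
  by_contra hx
  obtain ⟨f, hf, hfW⟩ := Submodule.exists_le_ker_of_notMem hx
  exact hf (h f (hfW (Submodule.mem_span_singleton_self v)))

/-- the main computation -/
theorem lin_core (h3 : 3 ≤ Fintype.card ι) {s : Matrix.SpecialLinearGroup ι F} {a : ℙ F (ι → F)} (ha : s • a = a) :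
    (∃ c, c ≠ a ∧ s • c = c) ∨ ∃ t : Matrix.SpecialLinearGroup ι F, t • a = a ∧
      (∃ c : ℙ F (ι → F), (s * t * s⁻¹ * t⁻¹) • c ≠ c) ∧ ∃ c, c ≠ a ∧ (s * t * s⁻¹ * t⁻¹) • c = c := by
  set v := a.rep with hv
  have hv0 : v ≠ 0 := a.rep_nonzero
  -- the eigenvalue
  obtain ⟨μ, hμ⟩ : ∃ μ : F, s.1.mulVec v = μ • v := by
    have h1 := ha
    rw [ProjLines.smul_eq] at h1
    conv at h1 => rhs; rw [← a.mk_rep]
    rw [Projectivization.mk_eq_mk_iff'] at h1
    obtain ⟨k, hk⟩ := h1
    exact ⟨k, hk.symm⟩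
  have hinv : ∀ w, s⁻¹.1.mulVec (s.1.mulVec w) = w := by
    intro w
    rw [Matrix.mulVec_mulVec, ← Matrix.SpecialLinearGroup.coe_mul, inv_mul_cancel, Matrix.SpecialLinearGroup.coe_one,
      Matrix.one_mulVec]
  have hinv' : ∀ w, s.1.mulVec (s⁻¹.1.mulVec w) = w := by
    intro w
    rw [Matrix.mulVec_mulVec, ← Matrix.SpecialLinearGroup.coe_mul, mul_inv_cancel, Matrix.SpecialLinearGroup.coe_one,
      Matrix.one_mulVec]
  have hμ0 : μ ≠ 0 := by
    rintro rfl
    rw [zero_smul] at hμ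
    apply hv0
    have h1 := hinv v
    rw [hμ, Matrix.mulVec_zero] at h1
    exact h1.symm
  have hmk : ∀ w, w ∉ Submodule.span F {v} → ∃ hw : w ≠ 0, Projectivization.mk F w hw ≠ a := by
    intro w hw
    have hw0 : w ≠ 0 := by
      rintro rfl
      exact hw (Submodule.zero_mem _)
    refine ⟨hw0, fun hc => hw ?_⟩
    conv at hc => rhs; rw [← a.mk_rep]
    rw [Projectivization.mk_eq_mk_iff'] at hc
    obtain ⟨k, hk⟩ := hc
    exact Submodule.mem_span_singleton.2 ⟨k, hk⟩
  let S' : (ι → F) →ₗ[F] (ι → F) := s⁻¹.1.mulVecLin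
  have hS' : ∀ w, S' w = s⁻¹.1.mulVec w := fun w => rfl
  have hS'v : μ • S' v = v := by
    have h1 := hinv v
    rw [hμ, Matrix.mulVec_smul] at h1
    exact h1
  by_cases hall : ∀ f : Module.Dual F (ι → F), f v = 0 → ∀ w, μ * f (S' w) = f w
  · -- `s` is an elation
    left
    let D : (ι → F) →ₗ[F] (ι → F) := μ • S' - LinearMap.id
    have hD : ∀ w, D w = μ • S' w - w := fun w => rfl
    have hr : LinearMap.range D ≤ Submodule.span F {v} := by
      rintro _ ⟨w, rfl⟩
      apply eq_zero_of_dual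
      intro f hf
      rw [hD, map_sub, map_smul, smul_eq_mul, hall f hf, sub_self]
    have hr1 : Module.finrank F (LinearMap.range D) ≤ 1 := by
      refine (Submodule.finrank_mono hr).trans ?_
      have h4 := finrank_span_le_card (R := F) ({v} : Set (ι → F))
      simpa using h4
    obtain ⟨w, hw, hwv⟩ := exists_ker h3 D hr1 v
    obtain ⟨hw0, hwa⟩ := hmk w hwv
    refine ⟨Projectivization.mk F w hw0, hwa, smul_mk_eq hw0 (k := μ) ?_⟩
    rw [hD, sub_eq_zero] at hw
    have h1 := congrArg (fun x => s.1.mulVec x) hw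
    simp only [Matrix.mulVec_smul, hS', hinv'] at h1
    exact h1.symm
  · right
    push Not at hall
    obtain ⟨f, hf, w₀, hw₀⟩ := hall
    obtain ⟨t, ht⟩ := exists_transv f v hf
    have ht' : ∀ w, t⁻¹.1.mulVec w = w - f w • v := by
      intro w
      have h1 : t.1.mulVec (w - f w • v) = w := by
        rw [ht, map_sub, map_smul, hf, smul_zero, sub_zero, sub_add_cancel]
      have h2 : t⁻¹.1.mulVec (t.1.mulVec (w - f w • v)) = w - f w • v := by
        rw [Matrix.mulVec_mulVec, ← Matrix.SpecialLinearGroup.coe_mul, inv_mul_cancel,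
          Matrix.SpecialLinearGroup.coe_one, Matrix.one_mulVec]
      rw [h1] at h2
      exact h2
    let h : Module.Dual F (ι → F) := μ • (f ∘ₗ S') - f
    have hh : ∀ w, h w = μ * f (S' w) - f w := fun w => rfl
    have key : ∀ w, (s * t * s⁻¹ * t⁻¹).1.mulVec w = w + h w • v := by
      intro w
      rw [Matrix.SpecialLinearGroup.coe_mul, Matrix.SpecialLinearGroup.coe_mul, Matrix.SpecialLinearGroup.coe_mul,
        ← Matrix.mulVec_mulVec, ← Matrix.mulVec_mulVec, ← Matrix.mulVec_mulVec, ht', ht]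
      have h1 : s⁻¹.1.mulVec (w - f w • v) = S' w - f w • S' v := by
        rw [← hS', map_sub, map_smul]
      have h2 : f (S' v) = 0 := by
        have h4 : f (μ • S' v) = 0 := by rw [hS'v, hf]
        rw [map_smul, smul_eq_mul] at h4
        exact (mul_eq_zero.1 h4).resolve_left hμ0
      rw [h1, Matrix.mulVec_add, Matrix.mulVec_smul, hμ, map_sub, map_smul, h2, smul_zero, sub_zero, Matrix.mulVec_sub,
        Matrix.mulVec_smul, hS', hS', hinv', hinv', hh, hS']
      module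
    have hta : t • a = a := smul_fix ht hf
    refine ⟨t, hta, ?_, ?_⟩
    · -- not trivial
      have hhw : h w₀ ≠ 0 := by rw [hh]; exact sub_ne_zero.2 hw₀
      have hvh : h v = 0 := by
        rw [hh, ← smul_eq_mul, ← map_smul, hS'v, sub_self]
      have hw₀' : w₀ ∉ Submodule.span F {v} := by
        intro hc
        obtain ⟨k, rfl⟩ := Submodule.mem_span_singleton.1 hc
        apply hhw
        rw [map_smul, hvh, smul_zero]
      obtain ⟨hw0, hwa⟩ := hmk w₀ hw₀'
      refine ⟨Projectivization.mk F w₀ hw0, ?_⟩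
      intro hc
      rw [smul_mk, Projectivization.mk_eq_mk_iff'] at hc
      obtain ⟨k, hk⟩ := hc
      rw [key] at hk
      -- `k w₀ = w₀ + h w₀ v`
      have h2 : (k - 1) • w₀ = h w₀ • v := by
        rw [sub_smul, one_smul, hk, add_sub_cancel_left]
      by_cases hk1 : k - 1 = 0
      · rw [hk1, zero_smul] at h2
        exact (smul_ne_zero hhw hv0) h2.symm
      · apply hw₀'
        rw [Submodule.mem_span_singleton]
        refine ⟨(k - 1)⁻¹ * h w₀, ?_⟩
        rw [mul_smul, ← h2, smul_smul, inv_mul_cancel₀ hk1, one_smul]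
    · obtain ⟨w, hw, hwv⟩ := exists_ker h3 h ((Submodule.finrank_le _).trans (by rw [Module.finrank_self])) v
      obtain ⟨hw0, hwa⟩ := hmk w hwv
      refine ⟨Projectivization.mk F w hw0, hwa, smul_mk_eq hw0 (k := 1) ?_⟩
      rw [key, hw, zero_smul, add_zero, one_smul]

end Lin

variable {G : Type u} {Ω : Type v} [Group G] [MulAction G Ω] {T : Subgroup G}

/-- a nontrivial subgroup `R` of `T_a`, normalized by `T_a`, is not semiregular on the other points -/
theorem psl_nsr (A : AS G Ω T) {a : Ω} (F : Type) [Field F] [Fintype F] {d : ℕ} (hd : 3 ≤ d)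
    (e : T ≃* Matrix.ProjectiveSpecialLinearGroup (Fin d) F) {r : ℕ} [CharP F r] (hr : r.Prime)
    (hrn : ¬ r ∣ Nat.card Ω) (R : Subgroup G) (hRT : R ≤ T) (hR1 : R ≠ ⊥) (hfix : ∀ x ∈ R, x • a = a)
    (hnorm : ∀ g ∈ T, g • a = a → ∀ x ∈ R, g * x * g⁻¹ ∈ R) :
    ∃ n ∈ R, n ≠ 1 ∧ ∃ y : Ω, y ≠ a ∧ n • y = y := by
  have := A.finG
  have := A.faithful
  have := Fact.mk hr
  obtain ⟨m, rfl⟩ : ∃ m, d = m + 1 + 1 := ⟨d - 2, by omega⟩
  obtain ⟨e', Φ, hΦ⟩ := H410.ASLie.psl_equiv A e hrn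
  obtain ⟨⟨x, hx⟩, hx1⟩ := Subgroup.ne_bot_iff_exists_ne_one.1 hR1
  replace hx1 : x ≠ 1 := fun h => hx1 (Subtype.ext h)
  obtain ⟨s, hs⟩ := QuotientGroup.mk_surjective (e' ⟨x, hRT hx⟩)
  have h0 : ∀ (y : T) (z : Matrix.SpecialLinearGroup (Fin (m + 1 + 1)) F),
      (z : Matrix.ProjectiveSpecialLinearGroup (Fin (m + 1 + 1)) F) = e' y → ∀ ω : Ω, Φ (y • ω) = z • Φ ω := by
    intro y z hyz ω
    rw [hΦ, ← hyz]
    exact Matrix.ProjectiveSpecialLinearGroup.smul_proj_mk z (Φ ω)
  have hsa : s • Φ a = Φ a := by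
    rw [← h0 ⟨x, hRT hx⟩ s hs a]
    exact congrArg Φ (hfix x hx)
  rcases lin_core (by rw [Fintype.card_fin]; exact hd) hsa with ⟨c, hca, hc⟩ | ⟨t, hta, ⟨c', hc'⟩, c, hca, hc⟩
  · obtain ⟨γ, rfl⟩ := Φ.surjective c
    refine ⟨x, hx, hx1, γ, fun h => hca (by rw [h]), ?_⟩
    apply Φ.injective
    rw [← h0 ⟨x, hRT hx⟩ s hs γ] at hc
    exact hc
  · obtain ⟨γ, rfl⟩ := Φ.surjective c
    obtain ⟨γ', rfl⟩ := Φ.surjective c'
    set u : T := e'.symm (t : Matrix.ProjectiveSpecialLinearGroup (Fin (m + 1 + 1)) F) with hu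
    have hut : (t : Matrix.ProjectiveSpecialLinearGroup (Fin (m + 1 + 1)) F) = e' u := by
      rw [hu, MulEquiv.apply_symm_apply]
    have hua : (u : G) • a = a := by
      apply Φ.injective
      have h1 := h0 u t hut a
      rw [hta] at h1
      exact h1
    set X : T := ⟨x, hRT hx⟩ with hX
    have hst : ((s * t * s⁻¹ * t⁻¹ : Matrix.SpecialLinearGroup (Fin (m + 1 + 1)) F) :
        Matrix.ProjectiveSpecialLinearGroup (Fin (m + 1 + 1)) F) = e' (X * u * X⁻¹ * u⁻¹) := by
      rw [map_mul, map_mul, map_mul, map_inv, map_inv, ← hs, ← hut]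
      rfl
    have hcR : ((X * u * X⁻¹ * u⁻¹ : T) : G) ∈ R := by
      change x * u * x⁻¹ * (u : G)⁻¹ ∈ R
      have h1 : x * u * x⁻¹ * (u : G)⁻¹ = x * ((u : G) * x⁻¹ * (u : G)⁻¹) := by group
      rw [h1]
      exact mul_mem hx (hnorm u u.2 hua _ (inv_mem hx))
    refine ⟨_, hcR, ?_, γ, fun h => hca (by rw [h]), ?_⟩
    · intro h1
      apply hc'
      rw [← h0 _ _ hst γ']
      have h2 : X * u * X⁻¹ * u⁻¹ = 1 := Subtype.ext h1
      rw [h2, one_smul]
    · apply Φ.injective
      rw [← h0 _ _ hst γ] at hc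
      exact hc

end Cfsg.Agent.H361.Tits
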