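import Cfsg.Agent.H361.Tits.PslRow
import Cfsg.Agent.H499.TTNormMain

/-!
# 2-transitive groups with non-abelian socle and an elementary abelian normal `p`-subgroup of the point stabilizer,
semiregular on the other points (helper361)
-/

set_option autoImplicit false
open Cfsg

namespace Cfsg.Agent.H361.Tits

open Subgroup MulAction Cfsg.Agent.H384.TwoTrans Cfsg.Agent.H384 Cfsg.Agent.H499.TT
open Cfsg.Agent.ClassicalGeometry.SympBasic
open Cfsg.Agent.ClassicalGeometry.SympSiegel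
open Cfsg.Agent.ClassicalGeometry.SympAutExists
open Cfsg.Agent.H249.SpTwo

universe u v w

variable {G : Type u} {Ω : Type v} [Group G] [MulAction G Ω] {T : Subgroup G} {a : Ω} {p : ℕ} {Z : Subgroup G}

/-- an abelian normal `p`-subgroup of the stabilizer of `a`, not semiregular on the other points -/
def NSR (G : Type u) {Ω : Type v} [Group G] [MulAction G Ω] (a : Ω) (p : ℕ) : Prop :=
  ∃ N₀ : Subgroup G, (∀ x ∈ N₀, x • a = a) ∧ (∀ g : G, g • a = a → ∀ x ∈ N₀, g * x * g⁻¹ ∈ N₀) ∧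
    (∀ x ∈ N₀, ∀ y ∈ N₀, x * y = y * x) ∧ (∃ n ∈ N₀, n ≠ 1 ∧ ∃ y : Ω, y ≠ a ∧ n • y = y) ∧ IsPGroup p ↥N₀

theorem eq_of_pgroups [Finite G] {r p : ℕ} (hr : r.Prime) (hp : p.Prime) {N₀ Z : Subgroup G} (hN : IsPGroup r ↥N₀)
    (hZ : ∀ x ∈ Z, x ^ p = 1) (hZ1 : Z ≠ ⊥) (hle : Z ≤ N₀) : r = p := by
  obtain ⟨⟨x, hx⟩, hx1⟩ := Subgroup.ne_bot_iff_exists_ne_one.1 hZ1
  have := Fact.mk hp
  have h1 : orderOf x = p := orderOf_eq_prime (hZ x hx) (fun h => hx1 (Subtype.ext h))
  obtain ⟨k, hk⟩ := hN ⟨x, hle hx⟩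
  have h2 : x ^ r ^ k = 1 := congrArg Subtype.val hk
  have h3 := orderOf_dvd_of_pow_eq_one h2
  rw [h1] at h3
  exact ((Nat.prime_dvd_prime_iff_eq hp hr).1 (hp.dvd_of_dvd_pow h3)).symm

/-- a nontrivial elementary abelian `r`-subgroup of `T_a`, normal in `G_a` -/
theorem exists_EA_of_dich (A : AS G Ω T) (a : Ω) {r : ℕ} (hr : r.Prime) (hD : H248.Ovg.Dich r T)
    (hn : ¬ r ∣ Nat.card Ω) : ∃ R : Subgroup G, R ≤ T ∧ EA a r R := by
  have := A.finG
  have := A.finT
  have := A.normal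
  have : Fact r.Prime := ⟨hr⟩
  have h0 : Cfsg.pCore r (stabilizer T a) ≠ ⊥ := by
    intro h
    have h1 := hD.eq_top (stabilizer T a) h (by rwa [A.index_stabilizer])
    have h2 := A.index_stabilizer a
    rw [h1, Subgroup.index_top] at h2
    have h5 := A.five_le
    omega
  let K : Subgroup (stabilizer G a) := T.subgroupOf (stabilizer G a)
  have hK : K.Normal := inferInstance
  let e : stabilizer T a ≃* K :=
    { toFun := fun t => ⟨⟨((t : T) : G), t.2⟩, (t : T).2⟩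
      invFun := fun k => ⟨⟨((k : stabilizer G a) : G), k.2⟩, (k : stabilizer G a).2⟩
      left_inv := fun _ => rfl
      right_inv := fun _ => rfl
      map_mul' := fun _ _ => rfl }
  have h1 : Cfsg.pCore r K ≠ ⊥ := by
    rw [← Lib.Cores.map_equiv_pCore e r]
    intro h2
    exact h0 ((Subgroup.map_eq_bot_iff_of_injective _ e.injective).1 h2)
  let P : Subgroup (stabilizer G a) := (Cfsg.pCore r K).map K.subtype
  have hPe : P = K ⊓ Cfsg.pCore r (stabilizer G a) := Lib.Cores.map_subtype_pCore r hK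
  have hPn : P.Normal := by
    rw [hPe]
    infer_instance
  have hP1 : P ≠ ⊥ := by
    intro h2
    exact h1 ((Subgroup.map_eq_bot_iff_of_injective _ K.subtype_injective).1 h2)
  have hPp : IsPGroup r P := by
    rw [hPe]
    exact (Lib.Cores.pCore_isPGroup (G := stabilizer G a) r).to_le inf_le_right
  obtain ⟨R, hRP, hR⟩ := exists_EA (a := a) hr (P.map (stabilizer G a).subtype) (hPp.map _)
    (fun h2 => hP1 ((Subgroup.map_eq_bot_iff_of_injective _ (stabilizer G a).subtype_injective).1 h2))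
    (by
      rintro _ ⟨x, -, rfl⟩
      exact x.2)
    (by
      rintro g hg _ ⟨x, hx, rfl⟩
      exact ⟨⟨g, hg⟩ * x * ⟨g, hg⟩⁻¹, hPn.conj_mem x hx ⟨g, hg⟩, rfl⟩)
  refine ⟨R, fun x hx => ?_, hR⟩
  obtain ⟨y, hy, rfl⟩ := hRP hx
  rw [hPe] at hy
  exact hy.1

/-- **the row `PSL_d(q)`, `d ≥ 3`** -/
theorem psl_case (A : AS G Ω T) (h : EA a p Z) (F : Type) [Field F] [Fintype F] {d : ℕ} (hd : 3 ≤ d)
    (e : T ≃* Matrix.ProjectiveSpecialLinearGroup (Fin d) F)
    (hn : Nat.card Ω * (Fintype.card F - 1) = Fintype.card F ^ d - 1) : NSR G a p := by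
  have := A.finG
  have := A.finΩ
  have := A.faithful
  obtain ⟨r, hchar⟩ := CharP.exists F
  obtain ⟨⟨f, hf0⟩, hr, hf⟩ := FiniteField.card F r
  have := Fact.mk hr
  simp only [PNat.mk_coe] at hf
  have hrF : r ∣ Fintype.card F := by
    rw [hf]; exact dvd_pow_self r (by omega)
  have hrn : ¬ r ∣ Nat.card Ω := by
    intro h
    have h1 : r ∣ Fintype.card F ^ d - 1 := by
      rw [← hn]; exact h.mul_right _
    have h2 : r ∣ Fintype.card F ^ d := hrF.trans (dvd_pow_self _ (by omega))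
    have h3 : 1 ≤ Fintype.card F ^ d := Nat.one_le_pow _ _ Fintype.card_pos
    have h4 := (Nat.dvd_sub_iff_right h3 h2).1 h1
    exact hr.one_lt.ne' (Nat.dvd_one.1 h4)
  have := A.finT
  obtain ⟨R, hRT, hR⟩ := exists_EA_of_dich A a hr (Cfsg.Agent.H248.Ovg.dich_of_hasRGD
    (Cfsg.Agent.Nodes.RGDClass.hasRGD_of_PSL
      ⟨F, inferInstance, inferInstance, hchar, d, by omega, by omega, ⟨e⟩⟩)) hrn
  have hnsr := psl_nsr A F hd e hr hrn R hRT hR.ne_bot hR.fix (fun g _ hg => hR.norm g hg)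
  by_cases hpr : p = r
  · rw [hpr]
    exact ⟨R, hR.fix, hR.norm, hR.comm, hnsr, hR.isPGroup⟩
  exfalso
  -- `R` and `Z` commute
  have hdis : ∀ x, x ∈ R → x ∈ Z → x = 1 := by
    intro x hx hx'
    by_contra hx1
    exact hpr ((h.orderOf_eq hx' hx1).symm.trans (hR.orderOf_eq hx hx1))
  have hRZ : ∀ x ∈ R, ∀ z ∈ Z, x * z = z * x := by
    intro x hx z hz
    have h1 : x * z * x⁻¹ * z⁻¹ = 1 := by
      apply hdis
      · have h2 : x * z * x⁻¹ * z⁻¹ = x * (z * x⁻¹ * z⁻¹) := by group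
        rw [h2]
        exact mul_mem hx (hR.norm z (h.fix z hz) _ (inv_mem hx))
      · exact mul_mem (h.norm x (hR.fix x hx) z hz) (inv_mem hz)
    have h2 := mul_inv_eq_one.1 h1
    exact mul_inv_eq_iff_eq_mul.1 h2
  let N₀ : Subgroup G :=
    { carrier := {x | ∃ y ∈ R, ∃ z ∈ Z, x = y * z}
      one_mem' := ⟨1, one_mem _, 1, one_mem _, (one_mul 1).symm⟩
      mul_mem' := by
        rintro _ _ ⟨y, hy, z, hz, rfl⟩ ⟨y', hy', z', hz', rfl⟩
        refine ⟨y * y', mul_mem hy hy', z * z', mul_mem hz hz', ?_⟩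
        rw [mul_assoc y z, ← mul_assoc z y', ← hRZ y' hy' z hz]
        group
      inv_mem' := by
        rintro _ ⟨y, hy, z, hz, rfl⟩
        refine ⟨y⁻¹, inv_mem hy, z⁻¹, inv_mem hz, ?_⟩
        rw [hRZ y hy z hz, mul_inv_rev] }
  have hRN : R ≤ N₀ := fun x hx => ⟨x, hx, 1, one_mem _, (mul_one x).symm⟩
  have hZN : Z ≤ N₀ := fun x hx => ⟨1, one_mem _, x, hx, (one_mul x).symm⟩
  obtain ⟨x, hx, hx1, y, hya, hy⟩ := hnsr
  obtain ⟨r', f', n', hr', -, -, hNp, -⟩ := nsr_of A.two a N₀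
    (by
      rintro _ ⟨y, hy, z, hz, rfl⟩
      rw [mul_smul, h.fix z hz, hR.fix y hy])
    (by
      rintro g hg _ ⟨y, hy, z, hz, rfl⟩
      refine ⟨g * y * g⁻¹, hR.norm g hg y hy, g * z * g⁻¹, h.norm g hg z hz, by group⟩)
    (by
      rintro _ ⟨y, hy, z, hz, rfl⟩ _ ⟨y', hy', z', hz', rfl⟩
      have e1 : y * z * (y' * z') = (y * y') * (z * z') := by
        rw [mul_assoc y z, ← mul_assoc z y', ← hRZ y' hy' z hz]; group
      have e2 : y' * z' * (y * z) = (y' * y) * (z' * z) := by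
        rw [mul_assoc y' z', ← mul_assoc z' y, ← hRZ y hy z' hz']; group
      rw [e1, e2, hR.comm y hy y' hy', h.comm z hz z' hz'])
    ⟨x, hRN hx, hx1, y, hya, hy⟩
  have e1 := eq_of_pgroups hr' hr hNp hR.exp hR.ne_bot hRN
  have e2 := eq_of_pgroups hr' h.prime hNp h.exp h.ne_bot hZN
  exact hpr (e2.symm.trans e1)

namespace SR

/-- **the row `A_n`** -/
theorem alt (A : AS G Ω T) (h : SR a p Z) (hT : 2 * Nat.card T = (Nat.card Ω).factorial) :
    ∃ k, Nat.card Ω - 1 = p ^ k := by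
  classical
  have := A.finG
  have := A.finΩ
  have := A.faithful
  have := A.nontrivialΩ
  have := Fintype.ofFinite Ω
  have h5 := A.five_le
  have halt := alt_le_range A hT
  have h3 : IsMultiplyPretransitive G Ω 3 := by
    rw [← pretransitive_range 3]
    have h1 := alternatingGroup.isMultiplyPretransitive Ω
    have h2 : IsMultiplyPretransitive (alternatingGroup Ω) Ω 3 :=
      isMultiplyPretransitive_of_le (n := Nat.card Ω - 2) (by omega) (by omega)
    rw [isMultiplyPretransitive_iff] at h2 ⊢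
    intro y z
    obtain ⟨g, hg⟩ := h2 y z
    exact ⟨⟨g, halt g.2⟩, hg⟩
  obtain ⟨k, -, hk⟩ := h.card_eq
  exact ⟨k, by rw [h.of_three h3, hk]⟩

/-- **the row `Sp_2m(2)`** -/
theorem sp_row (A : AS G Ω T) (h : SR a p Z) {F : Type w} [Field F] [Fintype F] {m : ℕ}
    (hF : Fintype.card F = 2) (hm : 3 ≤ m) (e : ↥T ≃* PSp m F)
    (hn : Nat.card Ω = 2 ^ (m - 1) * (2 ^ m + 1) ∨ Nat.card Ω = 2 ^ (m - 1) * (2 ^ m - 1)) : False := by
  have := A.finG
  have := A.finΩ
  have := A.faithful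
  have hT := sp_index A hF hm e
  obtain ⟨x, hx, hx1⟩ := h.exists_ne
  obtain ⟨s0, hs0⟩ := exists_tau e x (by rw [hT]; trivial)
  obtain ⟨Q, hQ, hQ1, hQ2⟩ := Cfsg.Agent.H249.SpTwo.main e A hF hm hn a
  have hQ1' : ∀ v, v ≠ 0 → (tr e v • a = a ↔ Q v = 1) := hQ1
  have hQ0 : Q 0 = 0 := by
    have h3 := hQ 0 0
    rw [add_zero, sympForm_zero_left, add_zero, F_add_self hF] at h3
    exact h3
  have hQne : ∀ v, Q v = 1 → v ≠ 0 := by
    rintro v hv rfl
    rw [hQ0] at hv
    exact zero_ne_one hv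
  -- fixed vectors are nonsingular
  have hfix1 : ∀ s : Matrix.symplecticGroup (Fin m) F, tau e s ∈ Z → tau e s ≠ 1 →
      ∀ w, w ≠ 0 → s • w = w → Q w = 1 := by
    intro s hs hs1 w hw0 hw
    rw [← hQ1' w hw0]
    have h3 := tau_conj e s w
    rw [hw, mul_inv_eq_iff_eq_mul] at h3
    exact h.smul_eq_of_comm hs hs1 h3.symm
  have hadd : ∀ u v : Fin m ⊕ Fin m → F, u ≠ v → u + v ≠ 0 := by
    intro u v huv h0
    apply huv
    have h3 : u + v + v = v := by rw [h0, zero_add]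
    rw [add_assoc, V_add_self hF, add_zero] at h3
    exact h3
  have hfix2 : ∀ s : Matrix.symplecticGroup (Fin m) F, tau e s ∈ Z → tau e s ≠ 1 →
      ∀ u v, u ≠ 0 → v ≠ 0 → u ≠ v → s • u = u → s • v = v → sympForm m F u v ≠ 0 := by
    intro s hs hs1 u v hu0 hv0 huv hu hv h0
    have h3 := hfix1 s hs hs1 (u + v) (hadd u v huv) (by rw [smul_add', hu, hv])
    rw [hQ, hfix1 s hs hs1 u hu0 hu, hfix1 s hs hs1 v hv0 hv, h0, add_zero, F_two hF] at h3
    exact zero_ne_one h3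
  have hx0 : tau e s0 ∈ Z := by rw [hs0]; exact hx
  have hx0' : tau e s0 ≠ 1 := by rw [hs0]; exact hx1
  -- a nonsingular vector which is not fixed
  obtain ⟨w, hw⟩ : ∃ w, Q w = 1 := by
    obtain ⟨b, c, hbc⟩ := exists_hyperbolic (F := F) (m := m) (by omega)
    by_contra hcon
    push Not at hcon
    have h3 := hQ b c
    rw [(F_cases hF (Q b)).resolve_right (hcon b), (F_cases hF (Q c)).resolve_right (hcon c), hbc, zero_add,
      zero_add] at h3
    exact hcon _ h3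
  obtain ⟨u, hu, hus⟩ : ∃ u, Q u = 1 ∧ s0 • u ≠ u := by
    by_cases hws : s0 • w = w
    · obtain ⟨z, hz0, hzw, hz1, -, -⟩ := exists_perp3 hF hm w 0 0 w
      have hw0 := hQne w hw
      rcases F_cases hF (Q z) with hz | hz
      · refine ⟨w + z, ?_, ?_⟩
        · rw [hQ, hw, hz, hz1, add_zero, add_zero]
        · intro hc
          rw [smul_add', hws, add_right_inj] at hc
          have h3 := hfix1 s0 hx0 hx0' z hz0 hc
          rw [hz] at h3
          exact zero_ne_one h3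
      · refine ⟨z, hz, ?_⟩
        intro hc
        exact hfix2 s0 hx0 hx0' w z hw0 hz0 (Ne.symm hzw) hws hc hz1
    · exact ⟨w, hw, hws⟩
  have hu0 := hQne u hu
  have htt : tr e u * tr e u = 1 := by
    unfold tr
    rw [← map_mul, transv_mul, F_two hF, transv_zero, map_one]
  have hta : tr e u • a = a := (hQ1' u hu0).2 hu
  have hconj := tau_conj e s0 u
  rw [hs0] at hconj
  have hinv : (tr e u)⁻¹ = tr e u := inv_eq_of_mul_eq_one_left htt
  -- the commutator of `x` and the transvection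
  have hy : tau e (transv (s0 • u) 1 * transv u 1) = x * tr e u * x⁻¹ * (tr e u)⁻¹ := by
    rw [hconj, hinv, map_mul]
    rfl
  have hyZ : tau e (transv (s0 • u) 1 * transv u 1) ∈ Z := by
    rw [hy]
    have h1 : x * tr e u * x⁻¹ * (tr e u)⁻¹ = x * (tr e u * x⁻¹ * (tr e u)⁻¹) := by group
    rw [h1]
    exact mul_mem hx (h.norm _ hta _ (inv_mem hx))
  have hy1 : tau e (transv (s0 • u) 1 * transv u 1) ≠ 1 := by
    rw [hy, hconj]
    intro h1
    exact hus (tr_injective e hF (by omega) (smul_ne_zero' s0 hu0) hu0 (mul_inv_eq_one.1 h1))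
  have h5 : ∀ v, sympForm m F u v = 0 → sympForm m F (s0 • u) v = 0 →
      (transv (s0 • u) (1 : F) * transv u 1) • v = v := by
    intro v hv1 hv2
    have e1 : transv u (1 : F) • v = v := by
      rw [transv_smul, form_eq_zero_comm.1 hv1, mul_zero, zero_smul, add_zero]
    have e2 : transv (s0 • u) (1 : F) • v = v := by
      rw [transv_smul, form_eq_zero_comm.1 hv2, mul_zero, zero_smul, add_zero]
    rw [mul_smul, e1, e2]
  obtain ⟨z1, hz1, -, hz2, hz3, -⟩ := exists_perp3 hF hm u (s0 • u) 0 0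
  obtain ⟨z2, hy1', hy2, hy3, hy4, hy5⟩ := exists_perp3 hF hm u (s0 • u) z1 z1
  exact hfix2 _ hyZ hy1 z1 z2 hz1 hy1' (Ne.symm hy2) (h5 z1 hz2 hz3) (h5 z2 hy3 hy4) hy5

/-- the order of `Z` for `n - 1 = q² r` -/
theorem card_cases [Finite G] [Finite Ω] (h : SR a p Z) {q r : ℕ} (hq : q.Prime) (hr : r.Prime) (hqr : q ≠ r)
    (hn : Nat.card Ω - 1 = q ^ 2 * r) :
    (p = q ∧ (Nat.card Z = q ∨ Nat.card Z = q ^ 2)) ∨ (p = r ∧ Nat.card Z = r) := by
  obtain ⟨k, hk, hc⟩ := h.card_eq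
  have hp := h.prime
  have h1 := h.dvd
  have h2 := h.card_dvd
  rw [hn] at h1 h2
  rw [hc] at h2 ⊢
  rcases hp.dvd_mul.1 h1 with h3 | h3
  · left
    obtain rfl := (Nat.prime_dvd_prime_iff_eq hp hq).1 (hp.dvd_of_dvd_pow h3)
    refine ⟨rfl, ?_⟩
    have h4 : p ^ k ∣ p ^ 2 := by
      apply Nat.Coprime.dvd_of_dvd_mul_right _ h2
      exact Nat.Coprime.pow_left k ((Nat.coprime_primes hp hr).2 hqr)
    have h5 := (Nat.pow_dvd_pow_iff_le_right hp.one_lt).1 h4
    have h6 : k = 1 ∨ k = 2 := by omega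
    rcases h6 with rfl | rfl
    · left; rw [pow_one]
    · right; rfl
  · right
    obtain rfl := (Nat.prime_dvd_prime_iff_eq hp hr).1 h3
    refine ⟨rfl, ?_⟩
    have h4 : p ^ k ∣ p := by
      apply Nat.Coprime.dvd_of_dvd_mul_left _ h2
      exact Nat.Coprime.pow_left k (Nat.Coprime.pow_right 2 ((Nat.coprime_primes hp hq).2 (Ne.symm hqr)))
    have h5 : p ^ k ∣ p ^ 1 := by rwa [pow_one]
    have h6 := (Nat.pow_dvd_pow_iff_le_right hp.one_lt).1 h5
    have h7 : k = 1 := by omega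
    rw [h7, pow_one]

/-- an element of prime order of `T_a` commuting with an element of `Z` -/
theorem exists_pair [Finite G] (h : SR a p Z) (hZT : Z ≤ T) {r : ℕ} (hr : r.Prime)
    (hrT : r ∣ Nat.card ↥(T ⊓ stabilizer G a)) (hm : ¬ Nat.card Z ≡ 1 [MOD r]) :
    ∃ x y : T, orderOf x = r ∧ orderOf y = p ∧ Commute x y := by
  have := Fact.mk hr
  obtain ⟨y, hy⟩ := exists_prime_orderOf_dvd_card' r hrT
  have hy' : orderOf (y : G) = r := by rw [Subgroup.orderOf_coe, hy]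
  obtain ⟨z, hz, hz1, hc⟩ := h.exists_comm hr hy' y.2.2 hm
  refine ⟨⟨y, y.2.1⟩, ⟨z, hZT hz⟩, ?_, ?_, Subtype.ext hc⟩
  · rw [Subgroup.orderOf_mk, hy']
  · rw [Subgroup.orderOf_mk, h.orderOf_eq hz hz1]

/-- **the row `HS`** -/
theorem hs (A : AS G Ω T) (h : SR a p Z) (hn : Nat.card Ω = 176) (hT : Spor.IsoHS T) : False := by
  have := A.finG
  have := A.finΩ
  have hc := Cfsg.Agent.KFacts.HS.card hT
  have hT' := hT
  obtain ⟨e⟩ := hT
  have h1 := h.card_cases (q := 5) (r := 7) (by norm_num) (by norm_num) (by norm_num) (by rw [hn]; norm_num)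
  have hp2 : p ≠ 2 := by omega
  have hZT : Z ≤ T := by
    intro x hx
    by_cases hx1 : x = 1
    · rw [hx1]; exact one_mem _
    apply mem_of_coprime A e
    rw [Cfsg.Agent.S2072.result, h.orderOf_eq hx hx1]
    exact (Nat.coprime_primes h.prime Nat.prime_two).2 hp2
  have h3 := NC.stab_card A a
  rw [hc, hn] at h3
  have h4 : Nat.card ↥(T ⊓ stabilizer G a) = 252000 := by omega
  rcases h1 with ⟨rfl, h1⟩ | ⟨rfl, h1⟩
  · obtain ⟨x, y, hx, hy, hxy⟩ := h.exists_pair hZT (r := 7) (by norm_num) (by rw [h4]; norm_num) (by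
      rcases h1 with h1 | h1 <;> rw [h1] <;> decide)
    exact H347.Aff.Spor.hs57 hT' hx hy hxy
  · obtain ⟨x, y, hx, hy, hxy⟩ := h.exists_pair hZT (r := 5) (by norm_num) (by rw [h4]; norm_num) (by
      rw [h1]; decide)
    exact H347.Aff.Spor.hs57 hT' hy hx hxy.symm

/-- **the row `Co₃`** -/
theorem co3 (A : AS G Ω T) (h : SR a p Z) (hn : Nat.card Ω = 276) (hT : Spor.IsoCo3 T) : False := by
  have := A.finG
  have := A.finΩ
  have hT' := hT
  obtain ⟨e⟩ := hT
  have hc : Nat.card T = 495766656000 := by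
    rw [Nat.card_congr e.toEquiv]
    exact Cfsg.Agent.H49.CoStab.card_co3
  have h1 := h.card_cases (q := 5) (r := 11) (by norm_num) (by norm_num) (by norm_num) (by rw [hn]; norm_num)
  have hZT : Z ≤ T := by
    rw [eq_top A e Cfsg.Agent.S2071.result]
    exact le_top
  have h3 := NC.stab_card A a
  rw [hc, hn] at h3
  have h4 : Nat.card ↥(T ⊓ stabilizer G a) = 1796256000 := by omega
  rcases h1 with ⟨rfl, h1⟩ | ⟨rfl, h1⟩
  · obtain ⟨x, y, hx, hy, hxy⟩ := h.exists_pair hZT (r := 11) (by norm_num) (by rw [h4]; norm_num) (by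
      rcases h1 with h1 | h1 <;> rw [h1] <;> decide)
    exact H347.Aff.Spor.co3_not_comm hT' (Or.inl rfl) hx hy hxy
  · obtain ⟨x, y, hx, hy, hxy⟩ := h.exists_pair hZT (r := 7) (by norm_num) (by rw [h4]; norm_num) (by
      rw [h1]; decide)
    exact H347.Aff.Spor.co3_not_comm hT' (Or.inr rfl) hy hx hxy.symm

/-- a prime power degree minus one -/
theorem good [Finite G] [Finite Ω] (h : SR a p Z) {r k : ℕ} (hr : r.Prime) (hn : Nat.card Ω - 1 = r ^ k) :
    ∃ k, Nat.card Ω - 1 = p ^ k := by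
  have h1 := h.dvd
  rw [hn] at h1
  obtain rfl := (Nat.prime_dvd_prime_iff_eq h.prime hr).1 (h.prime.dvd_of_dvd_pow h1)
  exact ⟨k, hn⟩

/-- **the rows** -/
theorem rows (A : AS G Ω T) (h : SR a p Z) (hK : Known2 ↥T (Nat.card Ω)) :
    (∃ k, Nat.card Ω - 1 = p ^ k) ∨ NSR G a p := by
  have hfin := A.finG
  have hfinΩ := A.finΩ
  have hff := A.faithful
  generalize hn : Nat.card Ω = n at hK
  rw [← hn]
  cases hK with
  | alt n h5 e =>
    obtain ⟨e⟩ := e
    exact Or.inl (h.alt A (by rw [hn, Nat.card_congr e.toEquiv, card_alt h5]))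
  | psl F d n hd hd2 e hn' =>
    obtain ⟨e⟩ := e
    rcases Nat.lt_or_ge 2 d with h3 | h3
    · exact Or.inr (psl_case A h.toEA F h3 e (by rw [hn]; exact hn'))
    · left
      obtain rfl : d = 2 := by omega
      have h4 := hd2 rfl
      obtain ⟨r, hchar⟩ := CharP.exists F
      obtain ⟨⟨f, hf0⟩, hr, hF⟩ := FiniteField.card F r
      simp only [PNat.mk_coe] at hF
      have hnq : n = Fintype.card F + 1 := by
        have h5 : Fintype.card F ^ 2 - 1 = (Fintype.card F + 1) * (Fintype.card F - 1) := by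
          have := Nat.sq_sub_sq (Fintype.card F) 1
          rwa [one_pow] at this
        rw [h5] at hn'
        exact Nat.eq_of_mul_eq_mul_right (by omega) hn'
      exact h.good hr (k := f) (by rw [hn, hnq, Nat.add_sub_cancel, hF])
  | sp F m n hF hm e hn' =>
    obtain ⟨e⟩ := e
    exact (h.sp_row A hF hm e (by rw [hn]; exact hn')).elim
  | psu F q n hq hF e hn' =>
    left
    obtain ⟨r, hchar⟩ := CharP.exists F
    obtain ⟨⟨f, hf0⟩, hr, hF'⟩ := FiniteField.card F r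
    simp only [PNat.mk_coe] at hF'
    have h5 : q ∣ r ^ f := by
      rw [← hF', hF]
      exact dvd_pow_self q (by norm_num)
    obtain ⟨j, -, hj⟩ := (Nat.dvd_prime_pow hr).1 h5
    exact h.good hr (k := j * 3) (by rw [hn, hn', Nat.add_sub_cancel, hj, pow_mul])
  | sz F m n hm hF e hn' =>
    exact Or.inl (h.good Nat.prime_two (by rw [hn, hn', Nat.add_sub_cancel, hF, ← pow_mul]))
  | ree K m n hm hK e hn' =>
    exact Or.inl (h.good Nat.prime_three (by rw [hn, hn', Nat.add_sub_cancel, hK, ← pow_mul]))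
  | psl2_8 F hF e => exact Or.inl (h.good Nat.prime_three (k := 3) (by rw [hn]; norm_num))
  | psl2_9 F hF e => exact Or.inl (h.good (r := 5) (by norm_num) (k := 1) (by rw [hn]; norm_num))
  | psl2_11 F hF e =>
    obtain ⟨e⟩ := e
    obtain ⟨x, hx⟩ := h.nc (h.card_of_squarefree (by rw [hn]; decide +kernel))
    refine (hx.row11 A hn (t := 660) ?_ (Or.inl rfl)).elim
    rw [Nat.card_congr e.toEquiv, card_psl2 hF]
    norm_num
  | psl4_2 F hF e => exact Or.inl (h.good (r := 7) (by norm_num) (k := 1) (by rw [hn]; norm_num))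
  | a7 e =>
    obtain ⟨e⟩ := e
    obtain ⟨x, hx⟩ := h.nc (h.card_of_squarefree (by rw [hn]; decide +kernel))
    refine (hx.row15 A hn ?_).elim
    have h1 := card_alt (n := 7) (by norm_num)
    rw [Nat.card_congr e.toEquiv]
    have h2 : (7 : ℕ).factorial = 5040 := rfl
    rw [h2] at h1
    omega
  | m11 h' =>
    obtain ⟨e⟩ := h'
    obtain ⟨x, hx⟩ := h.nc (h.card_of_squarefree (by rw [hn]; decide +kernel))
    exact (hx.row11 A hn (by rw [Nat.card_congr e.toEquiv, Cfsg.Agent.H994.TwoGen.M11.card_M11]) (Or.inr rfl)).elim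
  | m11' h' => exact Or.inl (h.good (r := 11) (by norm_num) (k := 1) (by rw [hn]; norm_num))
  | m12 h' => exact Or.inl (h.good (r := 11) (by norm_num) (k := 1) (by rw [hn]; norm_num))
  | m22 h' =>
    obtain ⟨e⟩ := h'
    obtain ⟨x, hx⟩ := h.nc (h.card_of_squarefree (by rw [hn]; decide +kernel))
    exact (hx.row22 A hn (by rw [Nat.card_congr e.toEquiv, Cfsg.Agent.H729.M22Deg.card_M22])).elim
  | m23 h' =>
    obtain ⟨e⟩ := h'
    obtain ⟨x, hx⟩ := h.nc (h.card_of_squarefree (by rw [hn]; decide +kernel))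
    exact (hx.row23 A hn (by rw [Nat.card_congr e.toEquiv, Cfsg.Agent.SporadicA.MathieuRecog.card_M23])).elim
  | m24 h' => exact Or.inl (h.good (r := 23) (by norm_num) (k := 1) (by rw [hn]; norm_num))
  | hs h' => exact (h.hs A hn h').elim
  | co3 h' => exact (h.co3 A hn h').elim

end SR

end Cfsg.Agent.H361.Tits
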