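import Cfsg.Agent.H361.Tits.ONan
import Cfsg.Agent.H499.TTNorm

/-!
# Elementary abelian normal subgroups of the point stabilizer, semiregular on the other points (helper361)
-/

set_option autoImplicit false

namespace Cfsg.Agent.H361.Tits

open Subgroup MulAction Cfsg.Agent.H384.TwoTrans Cfsg.Agent.H499.TT

universe u v

variable {G : Type u} {Ω : Type v} [Group G] [MulAction G Ω]

/-- `Z ≠ 1` is an elementary abelian `p`-group, normal in the stabilizer of `a` -/
structure EA (a : Ω) (p : ℕ) (Z : Subgroup G) : Prop where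
  prime : p.Prime
  ne_bot : Z ≠ ⊥
  comm : ∀ x ∈ Z, ∀ y ∈ Z, x * y = y * x
  exp : ∀ x ∈ Z, x ^ p = 1
  fix : ∀ x ∈ Z, x • a = a
  norm : ∀ g : G, g • a = a → ∀ x ∈ Z, g * x * g⁻¹ ∈ Z

/-- a non-trivial `p`-group `Q`, normal in the stabilizer of `a`, contains such a group, centralized by `Q` -/
theorem exists_EA [Finite G] {a : Ω} {p : ℕ} (hp : p.Prime) (Q : Subgroup G) (hQp : IsPGroup p ↥Q) (hQ1 : Q ≠ ⊥)
    (hfix : ∀ x ∈ Q, x • a = a) (hnorm : ∀ g : G, g • a = a → ∀ x ∈ Q, g * x * g⁻¹ ∈ Q) :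
    ∃ Z : Subgroup G, Z ≤ Q ∧ EA a p Z := by
  have := Fact.mk hp
  let Z : Subgroup G :=
    { carrier := {x | x ∈ Q ∧ (∀ y ∈ Q, x * y = y * x) ∧ x ^ p = 1}
      one_mem' := ⟨one_mem _, fun y _ => by rw [one_mul, mul_one], one_pow _⟩
      mul_mem' := by
        rintro x y ⟨hx, hx', hx''⟩ ⟨hy, hy', hy''⟩
        refine ⟨mul_mem hx hy, fun z hz => ?_, ?_⟩
        · rw [mul_assoc, hy' z hz, ← mul_assoc, hx' z hz, mul_assoc]
        · rw [(show Commute x y from hx' y hy).mul_pow, hx'', hy'', one_mul]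
      inv_mem' := by
        rintro x ⟨hx, hx', hx''⟩
        refine ⟨inv_mem hx, fun z hz => ?_, by rw [inv_pow, hx'', inv_one]⟩
        exact ((show Commute x z from hx' z hz).inv_left).eq }
  refine ⟨Z, fun x hx => hx.1, hp, ?_, fun x hx y hy => hx.2.1 y hy.1, fun x hx => hx.2.2, fun x hx => hfix x hx.1, ?_⟩
  · intro hZ
    have hnt : Nontrivial Q := (Subgroup.nontrivial_iff_ne_bot Q).2 hQ1
    have hc := hQp.center_nontrivial
    obtain ⟨k, hk, hk0⟩ : ∃ k, Nat.card (center Q) = p ^ k ∧ k ≠ 0 := by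
      obtain ⟨k, hk⟩ := IsPGroup.iff_card.1 (hQp.to_subgroup (center Q))
      refine ⟨k, hk, ?_⟩
      rintro rfl
      have h1 : 1 < Nat.card (center Q) := Finite.one_lt_card
      rw [hk] at h1
      simp at h1
    obtain ⟨z, hz⟩ := exists_prime_orderOf_dvd_card' (G := center Q) p (by rw [hk]; exact dvd_pow_self p hk0)
    have hz1 : ((z : Q) : G) ∈ Z := by
      refine ⟨z.1.2, fun y hy => ?_, ?_⟩
      · have h1 := Subgroup.mem_center_iff.1 z.2 ⟨y, hy⟩
        exact (congrArg Subtype.val h1).symm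
      · have h1 : z ^ p = 1 := by rw [← hz, pow_orderOf_eq_one]
        exact congrArg (fun w : center Q => ((w : Q) : G)) h1
    rw [hZ, mem_bot] at hz1
    have h2 : z = 1 := Subtype.ext (Subtype.ext hz1)
    rw [h2, orderOf_one] at hz
    exact hp.one_lt.ne hz
  · rintro g hg x ⟨hx, hx', hx''⟩
    have hg' : g⁻¹ • a = a := by rw [inv_smul_eq_iff, hg]
    refine ⟨hnorm g hg x hx, fun y hy => ?_, by rw [conj_pow, hx'', mul_one, mul_inv_cancel]⟩
    have h1 := hnorm g⁻¹ hg' y hy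
    have h2 := hx' _ h1
    have h3 : g * x * g⁻¹ * y = g * (x * (g⁻¹ * y * g⁻¹⁻¹)) * g⁻¹ := by group
    have h4 : y * (g * x * g⁻¹) = g * ((g⁻¹ * y * g⁻¹⁻¹) * x) * g⁻¹ := by group
    rw [h3, h4, h2]

/-- **O'Nan's theorem**: the non-semiregular case -/
theorem nsr_of [Finite G] [Finite Ω] [FaithfulSMul G Ω] (h2 : IsMultiplyPretransitive G Ω 2) (a : Ω)
    (N₀ : Subgroup G) (hfix : ∀ x ∈ N₀, x • a = a) (hnorm : ∀ g : G, g • a = a → ∀ x ∈ N₀, g * x * g⁻¹ ∈ N₀)
    (hcomm : ∀ x ∈ N₀, ∀ y ∈ N₀, x * y = y * x) (hnsr : ∃ n ∈ N₀, n ≠ 1 ∧ ∃ y : Ω, y ≠ a ∧ n • y = y) :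
    ∃ r f n : ℕ, r.Prime ∧ 1 ≤ f ∧ 3 ≤ n ∧ IsPGroup r ↥N₀ ∧
      Nat.card Ω * (r ^ f - 1) = (r ^ f) ^ n - 1 ∧
      ∃ W : Subgroup G, W.Normal ∧ (∀ M : Subgroup G, M.Normal → M ≠ ⊥ → W ≤ M) ∧
        ∃ (F : Type) (_ : Field F) (_ : Fintype F), Fintype.card F = r ^ f ∧
          Nonempty (W ≃* Matrix.ProjectiveSpecialLinearGroup (Fin n) F) := by
  have hle : N₀ ≤ stabilizer G a := fun x hx => hfix x hx
  have hN := H360.ON.exists_fam h2 a N₀ hle (fun g hg => hnorm g hg) hnsr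
  have S := H360.ON.exists_ab h2 a N₀ hle (fun g hg => hnorm g hg)
    ⟨⟨fun x y => Subtype.ext (hcomm x x.2 y y.2)⟩⟩ hnsr
  obtain ⟨r, f, n, hr, hf, hn, hp, h⟩ := nsr S
  have h3 := hp a
  rw [hN.2] at h3
  exact ⟨r, f, n, hr, hf, hn, h3, h⟩

/-- semiregular on the other points -/
structure SR (a : Ω) (p : ℕ) (Z : Subgroup G) : Prop extends EA a p Z where
  free : ∀ x ∈ Z, x ≠ 1 → ∀ b : Ω, x • b = b → b = a

namespace EA

variable {a : Ω} {p : ℕ} {Z : Subgroup G}

theorem isPGroup (h : EA a p Z) : IsPGroup p ↥Z := fun x => ⟨1, by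
  rw [pow_one]
  exact Subtype.ext (h.exp x x.2)⟩

theorem exists_ne (h : EA a p Z) : ∃ x ∈ Z, x ≠ 1 := by
  obtain ⟨⟨x, hx⟩, hx1⟩ := Subgroup.ne_bot_iff_exists_ne_one.1 h.ne_bot
  exact ⟨x, hx, fun h => hx1 (Subtype.ext h)⟩

theorem orderOf_eq (h : EA a p Z) {x : G} (hx : x ∈ Z) (hx1 : x ≠ 1) : orderOf x = p := by
  have := Fact.mk h.prime
  exact orderOf_eq_prime (h.exp x hx) hx1

theorem card_eq [Finite G] (h : EA a p Z) : ∃ k, 1 ≤ k ∧ Nat.card Z = p ^ k := by
  have := Fact.mk h.prime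
  obtain ⟨k, hk⟩ := IsPGroup.iff_card.1 h.isPGroup
  refine ⟨k, ?_, hk⟩
  by_contra hk0
  have hk0' : k = 0 := by omega
  rw [hk0', pow_zero] at hk
  exact h.ne_bot (Subgroup.card_eq_one.1 hk)

/-- an element of prime order `r` of the stabilizer, `|Z| ≢ 1` modulo `r`, centralizes a nontrivial element of `Z` -/
theorem exists_comm [Finite G] (h : EA a p Z) {y : G} {r : ℕ} (hr : r.Prime) (hy : orderOf y = r) (hya : y • a = a)
    (hm : ¬ Nat.card Z ≡ 1 [MOD r]) : ∃ z ∈ Z, z ≠ 1 ∧ y * z = z * y := by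
  classical
  have := Fact.mk hr
  have hfixa : ∀ g : Subgroup.zpowers y, (g : G) • a = a := by
    intro g
    have h1 : Subgroup.zpowers y ≤ stabilizer G a := by
      rw [Subgroup.zpowers_le]
      exact hya
    exact h1 g.2
  let act : MulAction (Subgroup.zpowers y) Z :=
    { smul := fun g z => ⟨(g : G) * z * (g : G)⁻¹, h.norm _ (hfixa g) z z.2⟩
      one_smul := fun z => Subtype.ext (by
        change ((1 : Subgroup.zpowers y) : G) * z * ((1 : Subgroup.zpowers y) : G)⁻¹ = z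
        simp)
      mul_smul := fun g k z => Subtype.ext (by
        change ((g * k : Subgroup.zpowers y) : G) * z * ((g * k : Subgroup.zpowers y) : G)⁻¹ =
          g * (k * z * (k : G)⁻¹) * (g : G)⁻¹
        rw [Subgroup.coe_mul]; group) }
  have hpg : IsPGroup r (Subgroup.zpowers y) := IsPGroup.of_card (n := 1) (by rw [Nat.card_zpowers, hy, pow_one])
  have h1 := hpg.card_modEq_card_fixedPoints Z
  have h2 : Nat.card (fixedPoints (Subgroup.zpowers y) Z) ≠ 1 := fun h2 => hm (by rw [h2] at h1; exact h1)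
  by_contra hno
  push Not at hno
  apply h2
  rw [Nat.card_eq_one_iff_unique]
  have key : ∀ w : fixedPoints (Subgroup.zpowers y) Z, ((w : Z) : G) = 1 := by
    rintro ⟨w, hw⟩
    by_contra hne
    apply hno w w.2 hne
    have h3 := congrArg Subtype.val (hw ⟨y, Subgroup.mem_zpowers y⟩)
    have h4 : y * (w : G) * y⁻¹ = w := h3
    exact mul_inv_eq_iff_eq_mul.1 h4
  refine ⟨⟨fun w w' => Subtype.ext (Subtype.ext (by rw [key w, key w']))⟩, ⟨⟨1, fun g => Subtype.ext ?_⟩⟩⟩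
  change (g : G) * ((1 : Z) : G) * (g : G)⁻¹ = 1
  rw [OneMemClass.coe_one]; group

end EA

namespace SR

variable {a : Ω} {p : ℕ} {Z : Subgroup G}

theorem card_dvd [Finite G] [Finite Ω] (h : SR a p Z) : Nat.card Z ∣ Nat.card Ω - 1 := by
  have key : Nat.card Z ∣ ({x : Ω | x ≠ a} : Set Ω).ncard := by
    refine PermutationGroups.TwoTransitiveNormal.dvd_ncard_of_index_stabilizer_eq (G := Z) (Set.toFinite _) ?_ ?_
    · intro g x hx hc
      apply hx
      have h1 : g • a = a := h.fix g g.2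
      have h2 : g • x = g • a := by rw [h1]; exact hc
      exact smul_left_cancel g h2
    · intro x hx
      have h1 : stabilizer Z x = ⊥ := by
        rw [eq_bot_iff]
        rintro ⟨g, hg⟩ hgx
        rw [mem_bot]
        by_contra hne
        exact hx (h.free g hg (fun hc => hne (Subtype.ext hc)) x hgx)
      rw [h1, Subgroup.index_bot]
  have h1 : ({x : Ω | x ≠ a} : Set Ω).ncard = Nat.card Ω - 1 := by
    have h2 : ({x : Ω | x ≠ a} : Set Ω) = ({a} : Set Ω)ᶜ := by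
      ext x; simp
    rw [h2, Set.ncard_compl, Set.ncard_singleton]
  rwa [h1] at key

theorem dvd [Finite G] [Finite Ω] (h : SR a p Z) : p ∣ Nat.card Ω - 1 := by
  obtain ⟨k, hk, hc⟩ := h.card_eq
  exact (dvd_pow_self p (by omega)).trans (hc ▸ h.card_dvd)

theorem smul_eq_of_comm (h : SR a p Z) {x g : G} (hx : x ∈ Z) (hx1 : x ≠ 1) (hg : g * x = x * g) : g • a = a := by
  apply h.free x hx hx1
  rw [← mul_smul, ← hg, mul_smul, h.fix x hx]

/-- a group of prime order -/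
theorem nc [Finite G] (h : SR a p Z) (hc : Nat.card Z = p) : ∃ x : G, NC a p x := by
  obtain ⟨x, hx, hx1⟩ := h.exists_ne
  refine ⟨x, h.prime, h.orderOf_eq hx hx1, h.fix x hx, fun g hg => ?_⟩
  have h1 : zpowers x = Z := by
    apply eq_of_le_of_card_ge (by rw [zpowers_le]; exact hx)
    rw [Nat.card_zpowers, h.orderOf_eq hx hx1, hc]
  rw [h1]
  exact h.norm g hg x hx

/-- if `|Ω| - 1` is squarefree then `|Z| = p` -/
theorem card_of_squarefree [Finite G] [Finite Ω] (h : SR a p Z) (hs : Squarefree (Nat.card Ω - 1)) :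
    Nat.card Z = p := by
  obtain ⟨k, hk, hc⟩ := h.card_eq
  have h1 := hs.squarefree_of_dvd h.card_dvd
  rw [hc] at h1 ⊢
  by_contra hne
  have h2 : 2 ≤ k := by
    by_contra h3
    have h4 : k = 1 := by omega
    rw [h4, pow_one] at hne
    exact hne rfl
  have h3 : p * p ∣ p ^ k := by
    rw [← sq]
    exact pow_dvd_pow p h2
  exact h.prime.one_lt.ne' (Nat.isUnit_iff.1 (h1 p h3))

/-- if `G` is 3-transitive then `|Z| = n - 1` -/
theorem of_three [Finite G] [Finite Ω] [Nontrivial Ω] (h : SR a p Z)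
    (h3 : IsMultiplyPretransitive G Ω 3) : Nat.card Ω - 1 = Nat.card Z := by
  obtain ⟨x, hx, hx1⟩ := h.exists_ne
  obtain ⟨b, hb⟩ := exists_ne a
  have hxb : x • b ≠ b := fun hc => hb (h.free x hx hx1 b hc)
  have hxa : x • b ≠ a := by
    intro hc
    apply hb
    have h1 : x • b = x • a := by rw [hc, h.fix x hx]
    exact smul_left_cancel x h1
  have key : ∀ c : Ω, c ≠ a → ∃ y ∈ Z, y • b = c := by
    intro c hc
    by_cases hcb : c = b
    · exact ⟨1, one_mem _, by rw [one_smul, hcb]⟩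
    have e1 : Function.Injective ![a, b, x • b] := by
      intro i j hij
      fin_cases i <;> fin_cases j <;> simp_all [Ne.symm hb, Ne.symm hxa, Ne.symm hxb]
    have e2 : Function.Injective ![a, b, c] := by
      intro i j hij
      fin_cases i <;> fin_cases j <;> simp_all [Ne.symm hb, Ne.symm hc, Ne.symm hcb]
    obtain ⟨g, hg⟩ := isMultiplyPretransitive_iff.1 h3 ⟨_, e1⟩ ⟨_, e2⟩
    have g0 : g • a = a := DFunLike.congr_fun hg 0
    have g1 : g • b = b := DFunLike.congr_fun hg 1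
    have g2 : g • x • b = c := DFunLike.congr_fun hg 2
    refine ⟨g * x * g⁻¹, h.norm g g0 x hx, ?_⟩
    rw [mul_smul, mul_smul, inv_smul_eq_iff.2 g1.symm, g2]
  have hcard : Nat.card Z = Nat.card {c : Ω // c ≠ a} := by
    apply Nat.card_congr
    refine Equiv.ofBijective (fun y => ⟨(y : G) • b, ?_⟩) ⟨?_, ?_⟩
    · intro hc
      apply hb
      have h1 : (y : G) • b = (y : G) • a := by rw [hc, h.fix y y.2]
      exact smul_left_cancel _ h1
    · intro y z hyz
      have h1 : (y : G) • b = (z : G) • b := congrArg Subtype.val hyz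
      apply Subtype.ext
      by_contra hcon
      apply hb
      refine h.free ((z : G)⁻¹ * y) (mul_mem (inv_mem z.2) y.2) ?_ b ?_
      · intro h2
        exact hcon (inv_mul_eq_one.1 h2).symm
      · rw [mul_smul, inv_smul_eq_iff, h1]
    · rintro ⟨c, hc⟩
      obtain ⟨y, hy, hyc⟩ := key c hc
      exact ⟨⟨y, hy⟩, Subtype.ext hyc⟩
  rw [hcard]
  have h1 := Set.ncard_add_ncard_compl ({a} : Set Ω)
  rw [Set.ncard_singleton, ← Nat.card_coe_set_eq] at h1
  have h4 : Nat.card ↥({a}ᶜ : Set Ω) = Nat.card {c : Ω // c ≠ a} := rfl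
  omega

end SR

end Cfsg.Agent.H361.Tits
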