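import Cfsg.Agent.H361.Tits.Rows
import Cfsg.Agent.H873.Tits.Stmts

/-!
# S3414, TAB1a from the list of the 2-transitive groups (helper361)
-/

set_option autoImplicit false
open Cfsg

namespace Cfsg.Agent.H361.Tits

open Subgroup MulAction Cfsg.Agent.H384.TwoTrans Cfsg.Agent.H873.Tits

universe u v

/-- the conclusion for an abstract group acting on `Ω` -/
def PslT (G : Type u) [Group G] (n p : ℕ) : Prop :=
  ∃ f d : ℕ, p.Prime ∧ 1 ≤ f ∧ 3 ≤ d ∧ n * (p ^ f - 1) = (p ^ f) ^ d - 1 ∧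
      ∃ W : Subgroup G, W.Normal ∧ (∀ M : Subgroup G, M.Normal → M ≠ ⊥ → W ≤ M) ∧
        ∃ (F : Type) (_ : Field F) (_ : Fintype F), Fintype.card F = p ^ f ∧
          Nonempty (W ≃* Matrix.ProjectiveSpecialLinearGroup (Fin d) F)

section

variable {G : Type u} {Ω : Type v} [Group G] [MulAction G Ω]

theorem pslT_of_nsr [Finite G] [Finite Ω] [FaithfulSMul G Ω] (h2 : IsMultiplyPretransitive G Ω 2) {a : Ω} {p : ℕ}
    (hp : p.Prime) (h : NSR G a p) : PslT G (Nat.card Ω) p := by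
  obtain ⟨N₀, hfix, hnorm, hcomm, hnsr, hNp⟩ := h
  obtain ⟨r, f, n, hr, hf, hn, hNr, hc, hW⟩ := nsr_of h2 a N₀ hfix hnorm hcomm hnsr
  obtain ⟨x, hx, hx1, -⟩ := hnsr
  have hpr : r = p := by
    obtain ⟨k, hk⟩ := hNp ⟨x, hx⟩
    obtain ⟨l, hl⟩ := hNr ⟨x, hx⟩
    by_contra hne
    have h1 : orderOf (⟨x, hx⟩ : N₀) ∣ p ^ k := orderOf_dvd_of_pow_eq_one hk
    have h3 : orderOf (⟨x, hx⟩ : N₀) ∣ r ^ l := orderOf_dvd_of_pow_eq_one hl
    have h4 := Nat.dvd_gcd h1 h3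
    have h5 : Nat.Coprime (p ^ k) (r ^ l) := Nat.Coprime.pow k l ((Nat.coprime_primes hp hr).2 (Ne.symm hne))
    rw [h5.gcd_eq_one, Nat.dvd_one, orderOf_eq_one_iff] at h4
    exact hx1 (congrArg Subtype.val h4)
  subst hpr
  exact ⟨f, n, hr, hf, hn, hc, hW⟩

/-- **TAB1a** for abstract groups -/
theorem tab [Finite G] [Finite Ω] [FaithfulSMul G Ω]
    (hK : ∀ T : Subgroup G, AS G Ω T → Known2 ↥T (Nat.card Ω)) (h2 : IsMultiplyPretransitive G Ω 2) (h3 : 3 ≤ Nat.card Ω)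
    {a : Ω} {p : ℕ} (hp : p.Prime) (Q : Subgroup G) (hQp : IsPGroup p ↥Q) (hQ1 : Q ≠ ⊥)
    (hfix : ∀ x ∈ Q, x • a = a) (hnorm : ∀ g : G, g • a = a → ∀ x ∈ Q, g * x * g⁻¹ ∈ Q) :
    (∃ N : Subgroup G, N.Normal ∧ IsMulCommutative ↥N ∧
      (∀ x y : Ω, ∃ n ∈ N, n • x = y) ∧ ∀ x : Ω, ∀ n ∈ N, n • x = x → n = 1) ∨
    (∃ k, Nat.card Ω - 1 = p ^ k) ∨ PslT G (Nat.card Ω) p := by
  rcases reduction h2 h3 with ⟨N, hN, -, hNc, -, htr, hreg⟩ | ⟨T, A⟩
  · exact Or.inl ⟨N, hN, hNc, htr, hreg⟩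
  right
  obtain ⟨Z, hZQ, hZ⟩ := exists_EA hp Q hQp hQ1 hfix hnorm
  by_cases hnsr : ∃ n ∈ Z, n ≠ 1 ∧ ∃ y : Ω, y ≠ a ∧ n • y = y
  · exact Or.inr (pslT_of_nsr h2 hp ⟨Z, hZ.fix, hZ.norm, hZ.comm, hnsr, hZ.isPGroup⟩)
  · have hSR : SR a p Z := ⟨hZ, by
      intro x hx hx1 b hb
      by_contra hba
      exact hnsr ⟨x, hx, hx1, b, hba, hb⟩⟩
    rcases hSR.rows A (hK T A) with h | h
    · exact Or.inl h
    · exact Or.inr (pslT_of_nsr h2 hp h)

end

/-- **TAB1a.** -/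
theorem st_tab1a_of (hK : ∀ {G Ω : Type v} [Group G] [MulAction G Ω] {T : Subgroup G}, AS G Ω T →
    Known2 ↥T (Nat.card Ω)) : StTab1a.{v} := by
  intro Ω _ L s p a b Q hLQ hAff
  have h2 : IsMultiplyPretransitive L Ω 2 := by
    rw [is_two_pretransitive_iff]
    intro a b c d hab hcd
    obtain ⟨g, hg, h1, h2⟩ := hLQ.two a b c d hab hcd
    exact ⟨⟨g, hg⟩, h1, h2⟩
  have hc := hLQ.card
  have hs2 := hLQ.two_le
  have hQL : Q ≤ L := hLQ.Q_le.trans inf_le_left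
  have hQa : ∀ x ∈ Q, x a = a := fun x hx => (hLQ.Q_le hx).2
  have hp := tab (G := L) (Ω := Ω) (fun T A => hK A) h2 (by omega) (a := a) hLQ.prime (Q.subgroupOf L)
    (hLQ.Q_p.comap_of_injective L.subtype L.subtype_injective)
    (by
      intro h
      rw [subgroupOf_eq_bot, disjoint_iff, inf_eq_left.2 hQL] at h
      exact hLQ.Q_ne h)
    (fun x hx => hQa x hx)
    (by
      intro g hg x hx
      have hgS : (g : Equiv.Perm Ω) ∈ Stb L a := ⟨g.2, hg⟩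
      have h1 := hLQ.Q_normal.conj_mem ⟨x, hLQ.Q_le hx⟩ hx ⟨g, hgS⟩
      exact h1)
  rcases hp with ⟨N, hN, hNc, htr, hreg⟩ | ⟨k, hk⟩ | ⟨f, d, hp, hf, hd, hcd, W, hW, hmin, F, i1, i2, hF, ⟨e⟩⟩
  · exfalso
    apply hAff
    have hinj := L.subtype_injective
    let e : N ≃* N.map L.subtype := N.equivMapOfInjective _ hinj
    refine ⟨N.map L.subtype, ?_, ?_, ?_, ⟨?_⟩, ?_⟩
    · rintro _ ⟨x, -, rfl⟩
      exact x.2
    · have h1 : (N.map L.subtype).subgroupOf L = N := by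
        ext x
        constructor
        · rintro ⟨y, hy, hyx⟩
          have : y = x := hinj hyx
          rwa [← this]
        · intro hx
          exact ⟨x, hx, rfl⟩
      rw [h1]
      exact hN
    · exact ⟨⟨fun x y => e.symm.injective (by rw [map_mul, map_mul, hNc.is_comm.comm])⟩⟩
    · intro x y
      obtain ⟨n, hn, h⟩ := htr x y
      exact ⟨⟨n, ⟨n, hn, rfl⟩⟩, h⟩
    · intro x
      rw [eq_bot_iff]
      rintro ⟨_, n, hn, rfl⟩ hnx
      rw [mem_bot]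
      have h1 := hreg x n hn hnx
      apply Subtype.ext
      change (n : Equiv.Perm Ω) = 1
      rw [h1]
      rfl
  · left
    refine ⟨k, ?_⟩
    rw [← hk, hc, Nat.add_sub_cancel]
  · right
    refine ⟨d, f, hd, hf, hp, hcd, W.map L.subtype, ?_, ?_, ?_, F, i1, i2, hF, ⟨?_⟩⟩
    · rintro _ ⟨x, -, rfl⟩
      exact x.2
    · have h1 : (W.map L.subtype).subgroupOf L = W := by
        ext x
        constructor
        · rintro ⟨y, hy, hyx⟩
          have : y = x := L.subtype_injective hyx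
          rwa [← this]
        · intro hx
          exact ⟨x, hx, rfl⟩
      rw [h1]
      exact hW
    · intro M hML hM hM1
      have h1 := hmin (M.subgroupOf L) hM (by
        intro h
        rw [subgroupOf_eq_bot, disjoint_iff, inf_eq_left.2 hML] at h
        exact hM1 h)
      rintro _ ⟨x, hx, rfl⟩
      exact h1 hx
    · exact (W.equivMapOfInjective _ L.subtype_injective).symm.trans e

end Cfsg.Agent.H361.Tits
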