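import Cfsg.Agent.H361.Tits.Tab1aCore
import Cfsg.Agent.H384.TwoTransMain
import Cfsg.Agent.S0000

/-!
# S3414, TAB1a (helper361)
-/

set_option autoImplicit false

namespace Cfsg.Agent.H361.Tits

open Cfsg.Agent.H873.Tits

universe v

/-- **TAB1a.** -/
theorem st_tab1a : StTab1a.{v} :=
  st_tab1a_of fun A => Cfsg.Agent.H384.TwoTransMain.main (fun _ _ _ _ => Cfsg.Agent.S0000.result) A

end Cfsg.Agent.H361.Tits
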